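import Mathlib
import Groth.Agent.TorSESLib.Basic

/-!
# Vanishing of a map on `Tor` from a ladder of free resolutions which is zero modulo `I`
-/

set_option autoImplicit false
set_option backward.isDefEq.respectTransparency false

universe u

open CategoryTheory CategoryTheory.Limits MonoidalCategory

namespace TorPowLib

variable {A : Type u} [CommRing A]

/-- The chain map `α ⊗ Q` for the chosen resolution `Q` of `N`. -/
noncomputable abbrev tensorQ (N : ModuleCat.{u} A) {M' M : ModuleCat.{u} A} (α : M' ⟶ M) :=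
  (NatTrans.mapHomologicalComplex ((tensoringLeft (ModuleCat.{u} A)).map α)
    (ComplexShape.down ℕ)).app (projectiveResolution N).complex

theorem tensorQ_comp (N : ModuleCat.{u} A) {X Y Z : ModuleCat.{u} A} (f : X ⟶ Y) (g : Y ⟶ Z) :
    tensorQ N (f ≫ g) = tensorQ N f ≫ tensorQ N g := by
  refine HomologicalComplex.hom_ext _ _ fun j => ?_
  show ((tensoringLeft (ModuleCat.{u} A)).map (f ≫ g)).app _ = _
  rw [Functor.map_comp]
  rfl

theorem tor_map_app_eq_zero {N : ModuleCat.{u} A} {M' M : ModuleCat.{u} A} (α : M' ⟶ M) (i : ℕ)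
    (h : HomologicalComplex.homologyMap (tensorQ N α) i = 0) :
    ((CategoryTheory.Tor (ModuleCat.{u} A) i).map α).app N = 0 := by
  refine (ProjectiveResolution.leftDerived_app_eq ((tensoringLeft (ModuleCat.{u} A)).map α)
    (projectiveResolution N) i).trans ?_
  show _ ≫ HomologicalComplex.homologyMap (tensorQ N α) i ≫ _ = 0
  rw [h, zero_comp, comp_zero]

theorem homologyMap_zero_degree (I : Ideal A) (N : ModuleCat.{u} A) (hN : ∀ a ∈ I, ∀ y : N, a • y = 0)
    {M' M : ModuleCat.{u} A} (α : M' ⟶ M) (hα : ∀ x, α.hom x ∈ I • (⊤ : Submodule A M)) :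
    HomologicalComplex.homologyMap (tensorQ N α) 0 = 0 := by
  let Q := projectiveResolution N
  let K := (((tensoringLeft (ModuleCat.{u} A)).obj M).mapHomologicalComplex (ComplexShape.down ℕ)).obj Q.complex
  suffices h : (tensorQ N α).f 0 ≫ K.pOpcycles 0 = 0 by
    rw [← cancel_mono (K.homologyι 0), HomologicalComplex.homologyι_naturality, zero_comp]
    suffices h' : HomologicalComplex.opcyclesMap (tensorQ N α) 0 = 0 by rw [h', comp_zero]
    rw [← cancel_epi (((((tensoringLeft (ModuleCat.{u} A)).obj M').mapHomologicalComplex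
      (ComplexShape.down ℕ)).obj Q.complex).pOpcycles 0), HomologicalComplex.p_opcyclesMap, comp_zero]
    exact h
  have hd : K.d 1 0 ≫ K.pOpcycles 0 = 0 := K.d_pOpcycles 1 0
  have hboundary : ∀ (r : A), r ∈ I → ∀ q : Q.complex.X 0, r • q ∈ LinearMap.range (Q.complex.d 1 0).hom := by
    intro r hr q
    have he := (ShortComplex.ShortExact.moduleCat_exact_iff_function_exact _).1 Q.exact₀
    refine (he (r • q)).1 ?_
    rw [map_smul]
    exact hN r hr _
  have key : ∀ (x : M') (q : Q.complex.X 0),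
      (K.pOpcycles 0).hom ((α.hom x) ⊗ₜ[A] q) = 0 := fun x q => by
    refine Submodule.smul_induction_on (hα x) (fun r hr m _ => ?_) fun y y' hy hy' => ?_
    · obtain ⟨w, hw⟩ := hboundary r hr q
      rw [TensorProduct.smul_tmul, ← hw]
      exact DFunLike.congr_fun (congrArg ModuleCat.Hom.hom hd) (m ⊗ₜ[A] w)
    · rw [TensorProduct.add_tmul, map_add]
      exact (congrArg₂ (· + ·) hy hy').trans (add_zero _)
  exact ModuleCat.hom_ext (TensorProduct.ext' key)

theorem homologyMap_succ (N : ModuleCat.{u} A) {S T : ShortComplex (ModuleCat.{u} A)} (hS : S.ShortExact)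
    (hT : T.ShortExact) [Module.Flat A T.X₂] (φ : S ⟶ T) (p : ℕ)
    (h : HomologicalComplex.homologyMap (tensorQ N φ.τ₁) p = 0) :
    HomologicalComplex.homologyMap (tensorQ N φ.τ₃) (p + 1) = 0 := by
  let ψ : TorSESLib.cx S N ⟶ TorSESLib.cx T N :=
    { τ₁ := tensorQ N φ.τ₁
      τ₂ := tensorQ N φ.τ₂
      τ₃ := tensorQ N φ.τ₃
      comm₁₂ := (tensorQ_comp N _ _).symm.trans ((congrArg (tensorQ N) φ.comm₁₂).trans (tensorQ_comp N _ _))
      comm₂₃ := (tensorQ_comp N _ _).symm.trans ((congrArg (tensorQ N) φ.comm₂₃).trans (tensorQ_comp N _ _)) }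
  have hδ := HomologicalComplex.HomologySequence.δ_naturality ψ (TorSESLib.cx_shortExact S N hS)
    (TorSESLib.cx_shortExact T N hT) (p + 1) p (by simp)
  have z : IsZero ((TorSESLib.cx T N).X₂.homology (p + 1)) :=
    (TorSESLib.isZero_tor_of_flat N T.X₂ (Nat.succ_pos p)).of_iso (TorSESLib.torIso N T.X₂ (p + 1)).symm
  haveI := (TorSESLib.cx_shortExact T N hT).mono_δ (p + 1) p (by simp) z
  rw [show HomologicalComplex.homologyMap ψ.τ₁ p = 0 from h, comp_zero] at hδ
  exact (cancel_mono ((TorSESLib.cx_shortExact T N hT).δ (p + 1) p _)).1 (hδ.symm.trans zero_comp.symm)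

/-- An infinite augmented complex of flat modules which is exact. -/
structure Res (M : Type u) [AddCommGroup M] [Module A M] where
  X : ℕ → ModuleCat.{u} A
  flat : ∀ j, Module.Flat A (X j)
  d : ∀ j, X (j + 1) →ₗ[A] X j
  ε : X 0 →ₗ[A] M
  surj : Function.Surjective ε
  exact₀ : LinearMap.ker ε = LinearMap.range (d 0)
  exact : ∀ j, LinearMap.ker (d j) = LinearMap.range (d (j + 1))

variable {M : Type u} [AddCommGroup M] [Module A M]

theorem Res.ε_d (G : Res (A := A) M) (x : G.X 1) : G.ε (G.d 0 x) = 0 :=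
  LinearMap.mem_ker.1 (G.exact₀.ge (LinearMap.mem_range_self _ x))

theorem Res.d_d (G : Res (A := A) M) (j : ℕ) (x : G.X (j + 2)) : G.d j (G.d (j + 1) x) = 0 :=
  LinearMap.mem_ker.1 ((G.exact j).ge (LinearMap.mem_range_self _ x))

/-- The resolution of the first syzygy. -/
noncomputable def Res.tail (G : Res (A := A) M) : Res (A := A) ↥(LinearMap.range (G.d 0)) where
  X j := G.X (j + 1)
  flat j := G.flat (j + 1)
  d j := G.d (j + 1)
  ε := (G.d 0).rangeRestrict
  surj := (G.d 0).surjective_rangeRestrict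
  exact₀ := (LinearMap.ker_rangeRestrict _).trans (G.exact 0)
  exact j := G.exact (j + 1)

/-- The short exact sequence `syzygy → X 0 → M`. -/
noncomputable def Res.ses (G : Res (A := A) M) : ShortComplex (ModuleCat.{u} A) :=
  ShortComplex.mk (ModuleCat.ofHom (LinearMap.range (G.d 0)).subtype : _ ⟶ G.X 0)
    (ModuleCat.ofHom G.ε : G.X 0 ⟶ ModuleCat.of A M)
    (ModuleCat.hom_ext (LinearMap.ext fun x => by
      obtain ⟨w, hw⟩ := x.2
      show G.ε x.1 = 0
      rw [← hw, G.ε_d]))

theorem Res.ses_shortExact (G : Res (A := A) M) : G.ses.ShortExact where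
  exact := (ShortComplex.ShortExact.moduleCat_exact_iff_function_exact _).2 fun x =>
    ⟨fun hx => ⟨⟨x, G.exact₀.le (LinearMap.mem_ker.2 hx)⟩, rfl⟩, by
      rintro ⟨y, rfl⟩
      exact LinearMap.mem_ker.1 (G.exact₀.ge y.2)⟩
  mono_f := (ModuleCat.mono_iff_injective _).2 Subtype.val_injective
  epi_g := (ModuleCat.epi_iff_surjective _).2 G.surj

theorem homologyMap_eq_zero_of_ladder (I : Ideal A) (N : ModuleCat.{u} A)
    (hN : ∀ a ∈ I, ∀ y : N, a • y = 0) :
    ∀ (p : ℕ) {M' M : Type u} [AddCommGroup M'] [Module A M'] [AddCommGroup M] [Module A M]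
      (G : Res (A := A) M') (F : Res (A := A) M) (α : M' →ₗ[A] M) (g : ∀ j, G.X j →ₗ[A] F.X j),
      (∀ x, F.ε (g 0 x) = α (G.ε x)) →
      (∀ j, j < p → ∀ x, g j (G.d j x) = F.d j (g (j + 1) x)) →
      (∀ j, j ≤ p → ∀ x, g j x ∈ I • (⊤ : Submodule A (F.X j))) →
      HomologicalComplex.homologyMap (tensorQ N (ModuleCat.ofHom α)) p = 0 := by
  intro p
  induction p with
  | zero =>
    intro M' M _ _ _ _ G F α g h0 _ hI
    refine homologyMap_zero_degree I N hN _ fun x => ?_
    obtain ⟨y, rfl⟩ := G.surj x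
    show α (G.ε y) ∈ _
    rw [← h0]
    have h1 := Submodule.mem_map_of_mem (f := F.ε) (hI 0 le_rfl y)
    rw [Submodule.map_smul''] at h1
    exact Submodule.smul_mono le_rfl le_top h1
  | succ p ih =>
    intro M' M _ _ _ _ G F α g h0 hcomm hI
    have hmem : ∀ x ∈ LinearMap.range (G.d 0), g 0 x ∈ LinearMap.range (F.d 0) := by
      rintro _ ⟨w, rfl⟩
      exact ⟨g 1 w, (hcomm 0 (Nat.succ_pos p) w).symm⟩
    let β : ↥(LinearMap.range (G.d 0)) →ₗ[A] ↥(LinearMap.range (F.d 0)) := (g 0).restrict hmem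
    have hβ := ih G.tail F.tail β (fun j => g (j + 1))
      (fun x => Subtype.ext (hcomm 0 (Nat.succ_pos p) x).symm)
      (fun j hj => hcomm (j + 1) (by omega)) fun j hj => hI (j + 1) (by omega)
    let φ : G.ses ⟶ F.ses :=
      { τ₁ := ModuleCat.ofHom β
        τ₂ := ModuleCat.ofHom (g 0)
        τ₃ := ModuleCat.ofHom α
        comm₁₂ := ModuleCat.hom_ext (LinearMap.ext fun x => rfl)
        comm₂₃ := ModuleCat.hom_ext (LinearMap.ext fun x => h0 x) }
    haveI : Module.Flat A F.ses.X₂ := F.flat 0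
    exact homologyMap_succ N G.ses_shortExact F.ses_shortExact φ p hβ

end TorPowLib
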