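import Mathlib
import Groth.Agent.TorPowLib.Ladder

/-!
# Koszul towers over a resolution
-/

set_option autoImplicit false
set_option backward.isDefEq.respectTransparency false

universe u

open CategoryTheory

namespace TorPowLib

variable {A : Type u} [CommRing A] {M : Type u} [AddCommGroup M] [Module A M]
  (I : Ideal A) (F : Res (A := A) M)

/-- A complex lying over `F` by a map which commutes with the differentials modulo `I`. -/
structure Ov where
  X : ℕ → ModuleCat.{u} A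
  d : ∀ j, X (j + 1) →ₗ[A] X j
  d_d : ∀ j x, d j (d (j + 1) x) = 0
  π : ∀ j, X j →ₗ[A] F.X j
  ι : ∀ j, F.X j →ₗ[A] X j
  π_ι : ∀ j x, π j (ι j x) = x
  ι_π : ∀ x, ι 0 (π 0 x) = x
  d_ι : ∀ j x, d j (ι (j + 1) x) = ι j (F.d j x)
  π_d : ∀ j x, π j (d j x) - F.d j (π (j + 1) x) ∈ I • (⊤ : Submodule A (F.X j))

variable {I F}

/-- Maps compatible with all the structure. -/
structure OvHom (O O' : Ov I F) where
  f : ∀ j, O.X j →ₗ[A] O'.X j
  comm : ∀ j x, O'.d j (f (j + 1) x) = f j (O.d j x)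
  π_f : ∀ x, O'.π 0 (f 0 x) = O.π 0 x
  f_ι : ∀ j x, f j (O.ι j x) = O'.ι j x

/-- The image of the differential in degree `0`. -/
def Ov.bd (O : Ov I F) : Submodule A (F.X 0) := LinearMap.range ((O.π 0).comp (O.d 0))

theorem Ov.mem_range_of_bd (O : Ov I F) {x : O.X 0} (hx : O.π 0 x ∈ O.bd) :
    x ∈ LinearMap.range (O.d 0) := by
  obtain ⟨w, hw⟩ := hx
  refine ⟨w, ?_⟩
  rw [← O.ι_π x, ← hw, LinearMap.comp_apply, O.ι_π]

theorem OvHom.bd_le {O O' : Ov I F} (φ : OvHom O O') : O.bd ≤ O'.bd := by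
  rintro _ ⟨w, rfl⟩
  exact ⟨φ.f 1 w, by rw [LinearMap.comp_apply, LinearMap.comp_apply, φ.comm, φ.π_f]⟩

theorem Ov.range_d_le_bd (O : Ov I F) : LinearMap.range (F.d 0) ≤ O.bd := by
  rintro _ ⟨w, rfl⟩
  exact ⟨O.ι 1 w, by rw [LinearMap.comp_apply, O.d_ι, O.π_ι]⟩

/-- `F` over itself. -/
noncomputable def Ov.base : Ov I F where
  X := F.X
  d := F.d
  d_d := F.d_d
  π _ := LinearMap.id
  ι _ := LinearMap.id
  π_ι _ _ := rfl
  ι_π _ := rfl
  d_ι _ _ := rfl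
  π_d j x := by simp

/-- The cone of multiplication by `g`: the terms. -/
def coneX (O : Ov I F) : ℕ → ModuleCat.{u} A
  | 0 => O.X 0
  | j + 1 => ModuleCat.of A (O.X (j + 1) × O.X j)

/-- The differential of the cone. -/
def coneD (O : Ov I F) (g : A) : ∀ j, coneX O (j + 1) →ₗ[A] coneX O j
  | 0 => (O.d 0).comp (LinearMap.fst A (O.X 1) (O.X 0)) + g • LinearMap.snd A (O.X 1) (O.X 0)
  | j + 1 => ((O.d (j + 1)).comp (LinearMap.fst A (O.X (j + 2)) (O.X (j + 1))) +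
        g • LinearMap.snd A (O.X (j + 2)) (O.X (j + 1))).prod
      (-(O.d j).comp (LinearMap.snd A (O.X (j + 2)) (O.X (j + 1))))

/-- Projection of the cone. -/
def coneπ (O : Ov I F) : ∀ j, coneX O j →ₗ[A] F.X j
  | 0 => O.π 0
  | j + 1 => (O.π (j + 1)).comp (LinearMap.fst A (O.X (j + 1)) (O.X j))

/-- Inclusion into the cone. -/
def coneι (O : Ov I F) : ∀ j, F.X j →ₗ[A] coneX O j
  | 0 => O.ι 0
  | j + 1 => (LinearMap.inl A (O.X (j + 1)) (O.X j)).comp (O.ι (j + 1))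

/-- The cone of multiplication by `g ∈ I`. -/
noncomputable def Ov.cone (O : Ov I F) (g : A) (hg : g ∈ I) : Ov I F where
  X := coneX O
  d := coneD O g
  d_d
    | 0 => fun x => by
      show O.d 0 (O.d 1 x.1 + g • x.2) + g • (-(O.d 0 x.2)) = 0
      rw [map_add, O.d_d, map_smul, smul_neg, zero_add, add_neg_cancel]
    | j + 1 => fun x => by
      show (O.d (j + 1) (O.d (j + 2) x.1 + g • x.2) + g • (-(O.d (j + 1) x.2)), -(O.d j (-(O.d (j + 1) x.2)))) = 0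
      rw [map_add, O.d_d, map_smul, smul_neg, zero_add, add_neg_cancel, map_neg, O.d_d, neg_zero, neg_zero]
      rfl
  π := coneπ O
  ι := coneι O
  π_ι
    | 0 => O.π_ι 0
    | j + 1 => O.π_ι (j + 1)
  ι_π := O.ι_π
  d_ι
    | 0 => fun x => by
      show O.d 0 (O.ι 1 x) + g • (0 : O.X 0) = O.ι 0 (F.d 0 x)
      rw [smul_zero, add_zero, O.d_ι]
    | j + 1 => fun x => by
      show (O.d (j + 1) (O.ι (j + 2) x) + g • (0 : O.X (j + 1)), -(O.d j 0)) = (O.ι (j + 1) (F.d (j + 1) x), 0)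
      rw [smul_zero, add_zero, O.d_ι, map_zero, neg_zero]
  π_d
    | 0 => fun x => by
      show O.π 0 (O.d 0 x.1 + g • x.2) - F.d 0 (O.π 1 x.1) ∈ _
      rw [map_add, map_smul, add_sub_right_comm]
      exact add_mem (O.π_d 0 x.1) (Submodule.smul_mem_smul hg trivial)
    | j + 1 => fun x => by
      show O.π (j + 1) (O.d (j + 1) x.1 + g • x.2) - F.d (j + 1) (O.π (j + 2) x.1) ∈ _
      rw [map_add, map_smul, add_sub_right_comm]
      exact add_mem (O.π_d (j + 1) x.1) (Submodule.smul_mem_smul hg trivial)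

/-- Functoriality of the cone: the components. -/
def coneMapF {O O' : Ov I F} (φ : OvHom O O') (c : A) : ∀ j, coneX O j →ₗ[A] coneX O' j
  | 0 => φ.f 0
  | j + 1 => (φ.f (j + 1)).prodMap (c • φ.f j)

/-- Functoriality of the cone. -/
noncomputable def OvHom.cone {O O' : Ov I F} (φ : OvHom O O') (g g' : A) (hg : g ∈ I) (hg' : g' ∈ I)
    (c : A) (hc : g' * c = g) : OvHom (O.cone g hg) (O'.cone g' hg') where
  f := coneMapF φ c
  comm
    | 0 => fun x => by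
      show O'.d 0 (φ.f 1 x.1) + g' • (c • φ.f 0 x.2) = φ.f 0 (O.d 0 x.1 + g • x.2)
      rw [φ.comm, smul_smul, hc, map_add, map_smul]
    | j + 1 => fun x => by
      show (O'.d (j + 1) (φ.f (j + 2) x.1) + g' • (c • φ.f (j + 1) x.2), -(O'.d j (c • φ.f (j + 1) x.2))) =
        (φ.f (j + 1) (O.d (j + 1) x.1 + g • x.2), c • φ.f j (-(O.d j x.2)))
      rw [φ.comm, smul_smul, hc, map_add, map_smul, map_smul, φ.comm, map_neg, smul_neg]
  π_f := φ.π_f
  f_ι
    | 0 => φ.f_ι 0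
    | j + 1 => fun x => by
      show (φ.f (j + 1) (O.ι (j + 1) x), c • φ.f j 0) = (O'.ι (j + 1) x, (0 : O'.X j))
      rw [φ.f_ι, map_zero, smul_zero]

/-- Composition. -/
noncomputable def OvHom.comp {O O' O'' : Ov I F} (φ : OvHom O O') (ψ : OvHom O' O'') : OvHom O O'' where
  f j := (ψ.f j).comp (φ.f j)
  comm j x := by
    show O''.d j (ψ.f (j + 1) (φ.f (j + 1) x)) = _
    rw [ψ.comm, φ.comm]
    rfl
  π_f x := (ψ.π_f _).trans (φ.π_f x)
  f_ι j x := by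
    show ψ.f j (φ.f j (O.ι j x)) = _
    rw [φ.f_ι, ψ.f_ι]

variable (I F)

/-- A tower over `F` for the elements `fs`: bounded, killed by transition maps, small in degree `0`. -/
structure IsTower (fs : List A) (O : ℕ → Ov I F) : Prop where
  kill : ∀ a m, ∃ k, m ≤ k ∧ ∃ ψ : OvHom (O (a + k)) (O a),
    ∀ j (z : (O (a + k)).X (j + 1)), (O (a + k)).d j z = 0 → ψ.f (j + 1) z ∈ LinearMap.range ((O a).d (j + 1))
  high : ∀ a j, fs.length ≤ j → ∀ z : (O a).X (j + 1), (O a).d j z = 0 →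
    z ∈ LinearMap.range ((O a).d (j + 1))
  small : ∀ a, ∀ f ∈ fs, ∀ x : F.X 0, f ^ (a + 1) • x ∈ (O a).bd

theorem isTower_nil : IsTower I F [] fun _ => Ov.base :=
  { kill := fun a m => ⟨m, le_rfl, ⟨fun _ => LinearMap.id, fun _ _ => rfl, fun _ => rfl, fun _ _ => rfl⟩,
      fun j _ hz => (F.exact j).le hz⟩
    high := fun _ j _ _ hz => (F.exact j).le hz
    small := fun _ f hf => absurd hf List.not_mem_nil }

variable {I F}

theorem exists_stable_pow [IsNoetherianRing A] [Module.Finite A (F.X 0)] (W : Submodule A (F.X 0)) (g : A) :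
    ∃ k₀, ∀ l m, k₀ ≤ m → ∀ y : F.X 0, g ^ l • y ∈ W → g ^ m • y ∈ W := by
  let f : ℕ →o Submodule A (F.X 0) :=
    ⟨fun l => W.comap (g ^ l • LinearMap.id), fun a b hab y hy => by
      simp only [Submodule.mem_comap, LinearMap.smul_apply, LinearMap.id_apply] at hy ⊢
      obtain ⟨c, rfl⟩ := Nat.exists_eq_add_of_le hab
      rw [Nat.add_comm, pow_add, mul_smul]
      exact W.smul_mem _ hy⟩
  obtain ⟨k₀, hk₀⟩ := monotone_stabilizes_iff_noetherian.2
    (inferInstance : IsNoetherian A (F.X 0)) f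
  refine ⟨k₀, fun l m hm y hy => ?_⟩
  have h1 : y ∈ f (max l k₀) := f.2 (le_max_left l k₀) hy
  rw [← hk₀ _ (le_max_right l k₀)] at h1
  exact f.2 hm h1

theorem IsTower.cone [IsNoetherianRing A] [Module.Finite A (F.X 0)] {fs : List A} {O : ℕ → Ov I F}
    (hO : IsTower I F fs O) (g : A) (hg : g ∈ I) :
    IsTower I F (g :: fs) fun a => (O a).cone (g ^ (a + 1)) (I.pow_mem_of_mem hg _ a.succ_pos) where
  high a j hj z hz := by
    obtain ⟨i, rfl⟩ : ∃ i, j = i + 1 := ⟨j - 1, by simp at hj; omega⟩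
    obtain ⟨hz1, hz2⟩ := Prod.ext_iff.1 hz
    simp only [List.length_cons] at hj
    have hy : (O a).d i z.2 = 0 := neg_eq_zero.1 hz2
    obtain ⟨u, hu⟩ := hO.high a i (by omega) z.2 hy
    have hx : (O a).d (i + 1) (z.1 + g ^ (a + 1) • u) = 0 := by
      rw [map_add, map_smul, hu]
      exact hz1
    obtain ⟨w, hw⟩ := hO.high a (i + 1) (by omega) (z.1 + g ^ (a + 1) • u) hx
    refine ⟨(w, -u), Prod.ext ?_ ?_⟩
    · show (O a).d (i + 2) w + g ^ (a + 1) • (-u) = z.1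
      rw [hw, smul_neg, add_neg_cancel_right]
    · show -((O a).d (i + 1) (-u)) = z.2
      rw [map_neg, neg_neg, hu]
  small a f hf x := by
    rcases List.mem_cons.1 hf with rfl | hf
    · refine ⟨(0, (O a).ι 0 x), ?_⟩
      show (O a).π 0 ((O a).d 0 0 + f ^ (a + 1) • (O a).ι 0 x) = _
      rw [map_zero, zero_add, map_smul, (O a).π_ι]
    · obtain ⟨w, hw⟩ := hO.small a f hf x
      refine ⟨(w, 0), ?_⟩
      show (O a).π 0 ((O a).d 0 w + g ^ (a + 1) • (0 : (O a).X 0)) = _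
      rw [smul_zero, add_zero]
      exact hw
  kill a m := by
    obtain ⟨k₁, hk₁, ψ₁, hψ₁⟩ := hO.kill a m
    obtain ⟨k₀, hk₀⟩ := exists_stable_pow (O (a + k₁)).bd g
    obtain ⟨k₂, hk₂, ψ₂, hψ₂⟩ := hO.kill (a + k₁) k₀
    refine ⟨k₁ + k₂, hk₁.trans (Nat.le_add_right _ _), ?_⟩
    rw [← Nat.add_assoc]
    let φ₂ := ψ₂.cone (g ^ (a + k₁ + k₂ + 1)) (g ^ (a + k₁ + 1)) (I.pow_mem_of_mem hg _ (Nat.succ_pos _))
      (I.pow_mem_of_mem hg _ (Nat.succ_pos _)) (g ^ k₂) (by rw [← pow_add]; congr 1; omega)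
    let φ₁ := ψ₁.cone (g ^ (a + k₁ + 1)) (g ^ (a + 1)) (I.pow_mem_of_mem hg _ (Nat.succ_pos _))
      (I.pow_mem_of_mem hg _ (Nat.succ_pos _)) (g ^ k₁) (by rw [← pow_add]; congr 1; omega)
    refine ⟨φ₂.comp φ₁, fun j z hz => ?_⟩
    -- the second component becomes a boundary
    have hy : g ^ k₂ • ψ₂.f j z.2 ∈ LinearMap.range ((O (a + k₁)).d j) := by
      match j with
      | 0 =>
        refine (O (a + k₁)).mem_range_of_bd ?_
        rw [map_smul, ψ₂.π_f]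
        refine hk₀ (a + k₁ + k₂ + 1) k₂ hk₂ _ (ψ₂.bd_le ⟨-z.1, ?_⟩)
        have h1 : (O (a + k₁ + k₂)).d 0 z.1 + g ^ (a + k₁ + k₂ + 1) • z.2 = 0 := hz
        rw [LinearMap.comp_apply, map_neg, neg_eq_of_add_eq_zero_right h1, map_smul]
      | i + 1 =>
        exact Submodule.smul_mem _ _ (hψ₂ i z.2 (neg_eq_zero.1 (Prod.ext_iff.1 hz).2))
    obtain ⟨u, hu⟩ := hy
    have hz1 : ((O (a + k₁)).cone (g ^ (a + k₁ + 1)) (I.pow_mem_of_mem hg _ (Nat.succ_pos _))).d j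
        (φ₂.f (j + 1) z) = 0 := by
      rw [φ₂.comm, hz, map_zero]
    have hx : (O (a + k₁)).d j (ψ₂.f (j + 1) z.1 + g ^ (a + k₁ + 1) • u) = 0 := by
      rw [map_add, map_smul, hu]
      match j with
      | 0 => exact hz1
      | i + 1 => exact (Prod.ext_iff.1 hz1).1
    obtain ⟨w, hw⟩ := hψ₁ j _ hx
    refine ⟨(w, -(g ^ k₁ • ψ₁.f (j + 1) u)), Prod.ext ?_ ?_⟩
    · show (O a).d (j + 1) w + g ^ (a + 1) • (-(g ^ k₁ • ψ₁.f (j + 1) u)) = ψ₁.f (j + 1) (ψ₂.f (j + 1) z.1)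
      rw [hw, map_add, map_smul, smul_neg, smul_smul, ← pow_add,
        show a + 1 + k₁ = a + k₁ + 1 by omega, add_neg_cancel_right]
    · show -((O a).d j (-(g ^ k₁ • ψ₁.f (j + 1) u))) = g ^ k₁ • ψ₁.f j (g ^ k₂ • ψ₂.f j z.2)
      rw [map_neg, neg_neg, map_smul, ψ₁.comm, hu]

theorem exists_tower [IsNoetherianRing A] [Module.Finite A (F.X 0)] :
    ∀ fs : List A, (∀ f ∈ fs, f ∈ I) → ∃ O : ℕ → Ov I F, IsTower I F fs O := by
  intro fs
  induction fs with
  | nil => exact fun _ => ⟨_, isTower_nil I F⟩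
  | cons g fs ih =>
    intro h
    obtain ⟨O, hO⟩ := ih fun f hf => h f (List.mem_cons_of_mem _ hf)
    exact ⟨_, hO.cone g (h g List.mem_cons_self)⟩

end TorPowLib
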