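import Mathlib
import Groth.Agent.TorPowLib.Tower

/-!
# Uniform vanishing of `Tor(IⁿM, N) → Tor(M, N)` for `N` killed by `I`
-/

set_option autoImplicit false
set_option backward.isDefEq.respectTransparency false

universe u

open CategoryTheory

namespace TorPowLib

variable {A : Type u} [CommRing A]

section free

variable (M : Type u) [AddCommGroup M] [Module A M]

/-- The free cover. -/
noncomputable def cover (Z : ModuleCat.{u} A) : ModuleCat.of A (Z →₀ A) →ₗ[A] Z :=
  Finsupp.linearCombination A id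

theorem cover_surjective (Z : ModuleCat.{u} A) : Function.Surjective (cover Z) :=
  Finsupp.linearCombination_surjective A Function.surjective_id

/-- The iterated syzygies. -/
noncomputable def syz : ℕ → ModuleCat.{u} A
  | 0 => ModuleCat.of A M
  | n + 1 => ModuleCat.of A (LinearMap.ker (cover (syz n)))

/-- A free resolution. -/
noncomputable def Res.free : Res (A := A) M where
  X n := ModuleCat.of A (syz (A := A) M n →₀ A)
  flat n := inferInstanceAs (Module.Flat A (syz (A := A) M n →₀ A))
  d n := (LinearMap.ker (cover (syz (A := A) M n))).subtype.comp (cover (syz (A := A) M (n + 1)))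
  ε := cover (syz (A := A) M 0)
  surj := cover_surjective _
  exact₀ := by
    rw [LinearMap.range_comp, LinearMap.range_eq_top.2 (cover_surjective (syz (A := A) M 1))]
    exact ((Submodule.map_top _).trans (Submodule.range_subtype _)).symm
  exact j := by
    rw [LinearMap.range_comp (cover (syz (A := A) M (j + 2))),
      LinearMap.range_eq_top.2 (cover_surjective (syz (A := A) M (j + 2)))]
    refine Eq.trans ?_ ((Submodule.map_top _).trans (Submodule.range_subtype _)).symm
    exact LinearMap.ker_comp_of_ker_eq_bot _ (Submodule.ker_subtype _)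

theorem Res.free_projective (n : ℕ) : Module.Projective A ((Res.free (A := A) M).X n) :=
  inferInstanceAs (Module.Projective A (syz (A := A) M n →₀ A))

variable {M}

/-- The terms of a resolution beginning with a given cover. -/
def consX {P : Type u} [AddCommGroup P] [Module A P] {π : P →ₗ[A] M}
    (G : Res (A := A) ↥(LinearMap.ker π)) : ℕ → ModuleCat.{u} A
  | 0 => ModuleCat.of A P
  | j + 1 => G.X j

/-- The differentials. -/
def consD {P : Type u} [AddCommGroup P] [Module A P] {π : P →ₗ[A] M}
    (G : Res (A := A) ↥(LinearMap.ker π)) : ∀ j, consX G (j + 1) →ₗ[A] consX G j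
  | 0 => (LinearMap.ker π).subtype.comp G.ε
  | j + 1 => G.d j

/-- A resolution beginning with a given cover. -/
noncomputable def Res.cons {P : Type u} [AddCommGroup P] [Module A P] [Module.Flat A P]
    (π : P →ₗ[A] M) (hπ : Function.Surjective π) (G : Res (A := A) ↥(LinearMap.ker π)) : Res (A := A) M where
  X := consX G
  flat
    | 0 => inferInstanceAs (Module.Flat A P)
    | j + 1 => G.flat j
  d := consD G
  ε := π
  surj := hπ
  exact₀ := by
    show LinearMap.ker π = LinearMap.range ((LinearMap.ker π).subtype.comp G.ε)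
    rw [LinearMap.range_comp, LinearMap.range_eq_top.2 G.surj, Submodule.map_top, Submodule.range_subtype]
  exact
    | 0 => (LinearMap.ker_comp_of_ker_eq_bot _ (Submodule.ker_subtype _)).trans G.exact₀
    | j + 1 => G.exact j

end free

variable {M M' : Type u} [AddCommGroup M] [Module A M] [AddCommGroup M'] [Module A M']

theorem exists_lift {X Y Z : Type u} [AddCommGroup X] [Module A X] [AddCommGroup Y] [Module A Y]
    [AddCommGroup Z] [Module A Z] [Module.Projective A X] (d : Y →ₗ[A] Z) (φ : X →ₗ[A] Z)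
    (h : ∀ x, φ x ∈ LinearMap.range d) : ∃ u : X →ₗ[A] Y, ∀ x, d (u x) = φ x := by
  obtain ⟨u, hu⟩ := Module.projective_lifting_property d.rangeRestrict (φ.codRestrict _ h)
    d.surjective_rangeRestrict
  exact ⟨u, fun x => congrArg Subtype.val (LinearMap.congr_fun hu x)⟩

theorem exists_chain_lift (G : Res (A := A) M') (hG : ∀ j, Module.Projective A (G.X j))
    (F : Res (A := A) M) (α : M' →ₗ[A] M) :
    ∀ q, ∃ g : ∀ j, G.X j →ₗ[A] F.X j, (∀ x, F.ε (g 0 x) = α (G.ε x)) ∧
      ∀ j, j < q → ∀ x, g j (G.d j x) = F.d j (g (j + 1) x) := by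
  classical
  intro q
  induction q with
  | zero =>
    have := hG 0
    obtain ⟨u, hu⟩ := Module.projective_lifting_property F.ε (α.comp G.ε) F.surj
    refine ⟨Function.update (fun _ => 0) 0 u, fun x => ?_, fun j hj => absurd hj (Nat.not_lt_zero j)⟩
    rw [Function.update_self]
    exact LinearMap.congr_fun hu x
  | succ q ih =>
    obtain ⟨g, hg0, hg⟩ := ih
    have := hG (q + 1)
    obtain ⟨u, hu⟩ := exists_lift (F.d q) ((g q).comp (G.d q)) fun x => by
      match q with
      | 0 =>
        rw [← F.exact₀, LinearMap.mem_ker, LinearMap.comp_apply, hg0, G.ε_d, map_zero]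
      | i + 1 =>
        rw [← F.exact i, LinearMap.mem_ker, LinearMap.comp_apply, ← hg i (Nat.lt_succ_self i), G.d_d,
          map_zero]
    refine ⟨Function.update g (q + 1) u, fun x => ?_, fun j hj x => ?_⟩
    · rw [Function.update_of_ne (Nat.succ_ne_zero q).symm]; exact hg0 x
    · rw [Function.update_of_ne (by omega : j ≠ q + 1)]
      obtain rfl | hjq := Nat.eq_or_lt_of_le (Nat.le_of_lt_succ hj)
      · rw [Function.update_self]
        exact (hu x).symm
      · rw [Function.update_of_ne (by omega : j + 1 ≠ q + 1)]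
        exact hg j hjq x

theorem exists_homotopy {I : Ideal A} {F : Res (A := A) M} (G : Res (A := A) M')
    (hG : ∀ j, Module.Projective A (G.X j)) {fs : List A} {O : ℕ → Ov I F} (hO : IsTower I F fs O)
    (lev : ℕ → ℕ) (ψ : ∀ s, OvHom (O (lev (s + 1))) (O (lev s)))
    (hψ : ∀ s j (z : (O (lev (s + 1))).X (j + 1)), (O (lev (s + 1))).d j z = 0 →
      (ψ s).f (j + 1) z ∈ LinearMap.range ((O (lev s)).d (j + 1)))
    (g : ∀ j, G.X j →ₗ[A] F.X j) (p : ℕ) (hg : ∀ j, j < p → ∀ x, g j (G.d j x) = F.d j (g (j + 1) x))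
    (h0 : ∀ x, g 0 x ∈ (O (lev fs.length)).bd) :
    ∀ q, q ≤ p → ∃ h : ∀ j, G.X j →ₗ[A] (O (lev (fs.length - q))).X (j + 1),
      (∀ x, (O (lev (fs.length - q))).d 0 (h 0 x) = (O (lev (fs.length - q))).ι 0 (g 0 x)) ∧
      ∀ j, j < q → ∀ x, (O (lev (fs.length - q))).d (j + 1) (h (j + 1) x) + h j (G.d j x) =
        (O (lev (fs.length - q))).ι (j + 1) (g (j + 1) x) := by
  classical
  intro q
  induction q with
  | zero =>
    intro _
    rw [Nat.sub_zero]
    have := hG 0
    obtain ⟨u, hu⟩ := exists_lift ((O (lev fs.length)).d 0) (((O (lev fs.length)).ι 0).comp (g 0)) fun x => by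
      refine (O (lev fs.length)).mem_range_of_bd ?_
      rw [LinearMap.comp_apply, (O (lev fs.length)).π_ι]
      exact h0 x
    refine ⟨Function.update (fun _ => 0) 0 u, fun x => ?_, fun j hj => absurd hj (Nat.not_lt_zero j)⟩
    rw [Function.update_self]
    exact hu x
  | succ q ih =>
    intro hq
    obtain ⟨h, hh0, hh⟩ := ih (by omega)
    have hcyc : ∀ x, (O (lev (fs.length - q))).d q
        ((O (lev (fs.length - q))).ι (q + 1) (g (q + 1) x) - h q (G.d q x)) = 0 := fun x => by
      rw [map_sub, (O (lev (fs.length - q))).d_ι, ← hg q (by omega), sub_eq_zero]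
      match q with
      | 0 => exact (hh0 _).symm
      | i + 1 =>
        have h1 := hh i (Nat.lt_succ_self i) (G.d (i + 1) x)
        rw [G.d_d, map_zero, add_zero] at h1
        exact h1.symm
    have := hG (q + 1)
    suffices hfin : ∀ (s : ℕ) (θ : OvHom (O (lev (fs.length - q))) (O (lev s))),
        (∀ x, θ.f (q + 1) ((O (lev (fs.length - q))).ι (q + 1) (g (q + 1) x) - h q (G.d q x)) ∈
          LinearMap.range ((O (lev s)).d (q + 1))) →
        ∃ h' : ∀ j, G.X j →ₗ[A] (O (lev s)).X (j + 1),
          (∀ x, (O (lev s)).d 0 (h' 0 x) = (O (lev s)).ι 0 (g 0 x)) ∧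
          ∀ j, j < q + 1 → ∀ x, (O (lev s)).d (j + 1) (h' (j + 1) x) + h' j (G.d j x) =
            (O (lev s)).ι (j + 1) (g (j + 1) x) by
      by_cases hqt : q < fs.length
      · obtain ⟨s, hs⟩ : ∃ s, fs.length - q = s + 1 := ⟨fs.length - q - 1, by omega⟩
        rw [show fs.length - (q + 1) = s by omega]
        clear hh0 hh
        revert h hcyc hfin
        rw [hs]
        intro h hcyc hfin
        exact hfin s (ψ s) fun x => hψ s q _ (hcyc x)
      · rw [show fs.length - (q + 1) = fs.length - q by omega]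
        exact hfin _ ⟨fun _ => LinearMap.id, fun _ _ => rfl, fun _ => rfl, fun _ _ => rfl⟩
          fun x => hO.high _ q (by omega) _ (hcyc x)
    intro s θ hθ
    obtain ⟨u, hu⟩ := exists_lift ((O (lev s)).d (q + 1))
      ((θ.f (q + 1)).comp (((O (lev (fs.length - q))).ι (q + 1)).comp (g (q + 1)) - (h q).comp (G.d q)))
      fun x => hθ x
    refine ⟨Function.update (fun j => (θ.f (j + 1)).comp (h j)) (q + 1) u, fun x => ?_, fun j hj x => ?_⟩
    · rw [Function.update_of_ne (Nat.succ_ne_zero q).symm, LinearMap.comp_apply, θ.comm, hh0, θ.f_ι]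
    · rw [Function.update_of_ne (by omega : j ≠ q + 1)]
      obtain rfl | hjq := Nat.eq_or_lt_of_le (Nat.le_of_lt_succ hj)
      · rw [Function.update_self, hu]
        simp only [LinearMap.comp_apply, LinearMap.sub_apply, map_sub, θ.f_ι]
        rw [sub_add_cancel]
      · rw [Function.update_of_ne (by omega : j + 1 ≠ q + 1)]
        simp only [LinearMap.comp_apply]
        rw [θ.comm, ← map_add, hh j hjq, θ.f_ι]

/-- The corrected lift. -/
def corrected {G : Res (A := A) M'} {F : Res (A := A) M} (g : ∀ j, G.X j →ₗ[A] F.X j)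
    (H : ∀ j, G.X j →ₗ[A] F.X (j + 1)) : ∀ j, G.X j →ₗ[A] F.X j
  | 0 => g 0 - (F.d 0).comp (H 0)
  | j + 1 => g (j + 1) - ((F.d (j + 1)).comp (H (j + 1)) + (H j).comp (G.d j))

theorem corrected_comm {G : Res (A := A) M'} {F : Res (A := A) M} (g : ∀ j, G.X j →ₗ[A] F.X j)
    (H : ∀ j, G.X j →ₗ[A] F.X (j + 1)) {p : ℕ}
    (hg : ∀ j, j < p → ∀ x, g j (G.d j x) = F.d j (g (j + 1) x)) :
    ∀ j, j < p → ∀ x, corrected g H j (G.d j x) = F.d j (corrected g H (j + 1) x)
  | 0 => fun hj x => by
    simp only [corrected, LinearMap.sub_apply, LinearMap.add_apply, LinearMap.comp_apply, map_sub, map_add,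
      F.d_d, zero_add, hg 0 hj]
  | j + 1 => fun hj x => by
    simp only [corrected, LinearMap.sub_apply, LinearMap.add_apply, LinearMap.comp_apply, map_sub, map_add,
      F.d_d, zero_add, G.d_d, map_zero, add_zero, hg (j + 1) hj]

theorem exists_uniform [IsNoetherianRing A] [Module.Finite A M] (I : Ideal A) :
    ∃ n : ℕ, 0 < n ∧ ∀ (N : ModuleCat.{u} A), (∀ a ∈ I, ∀ y : N, a • y = 0) → ∀ p : ℕ,
      ((CategoryTheory.Tor (ModuleCat.{u} A) p).map
        (ModuleCat.ofHom (I ^ n • ⊤ : Submodule A M).subtype)).app N = 0 := by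
  classical
  obtain ⟨r, π, hπ⟩ := Module.Finite.exists_fin' A M
  let F : Res (A := A) M := Res.cons π hπ (Res.free _)
  have hF : Module.Finite A (F.X 0) := inferInstanceAs (Module.Finite A (Fin r → A))
  obtain ⟨gens, hgens⟩ := (IsNoetherian.noetherian I : I.FG)
  have hmem : ∀ f ∈ gens.toList, f ∈ I := fun f hf => hgens ▸ Ideal.subset_span (Finset.mem_toList.1 hf)
  obtain ⟨O, hO⟩ := exists_tower (I := I) (F := F) gens.toList hmem
  choose k hk ψ hψ using fun a => hO.kill a 0
  let lev : ℕ → ℕ := fun s => Nat.rec 0 (fun _ a => a + k a) s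
  let T := lev gens.toList.length
  let J : Ideal A := Ideal.span ((fun f => f ^ (T + 1)) '' (gens : Set A))
  have hrad : I ≤ J.radical := by
    rw [← hgens]
    exact Ideal.span_le.2 fun f hf => ⟨T + 1, Ideal.subset_span ⟨f, hf, rfl⟩⟩
  obtain ⟨n, hn⟩ := Ideal.exists_pow_le_of_le_radical_of_fg hrad (IsNoetherian.noetherian I)
  have hJ : J • (⊤ : Submodule A (F.X 0)) ≤ (O T).bd := by
    refine Submodule.smul_le.2 fun r hr x _ => ?_
    induction hr using Submodule.span_induction with
    | mem r hr =>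
      obtain ⟨f, hf, rfl⟩ := hr
      exact hO.small T f (Finset.mem_toList.2 hf) x
    | zero => rw [zero_smul]; exact zero_mem _
    | add a b _ _ ha hb => rw [add_smul]; exact add_mem ha hb
    | smul c a _ ha => rw [smul_assoc]; exact Submodule.smul_mem _ c ha
  refine ⟨n + 1, Nat.succ_pos n, fun N hN p => tor_map_app_eq_zero _ p ?_⟩
  let M' : Submodule A M := I ^ (n + 1) • ⊤
  let G : Res (A := A) ↥M' := Res.free _
  obtain ⟨g, hg0, hg⟩ := exists_chain_lift G (Res.free_projective _) F M'.subtype p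
  have hbd : ∀ x, g 0 x ∈ (O T).bd := fun x => by
    have h1 : F.ε (g 0 x) ∈ (J • (⊤ : Submodule A (F.X 0))).map F.ε := by
      rw [hg0, Submodule.map_smul'', Submodule.map_top, LinearMap.range_eq_top.2 F.surj]
      exact Submodule.smul_mono ((Ideal.pow_le_pow_right (Nat.le_succ n)).trans hn) le_rfl (G.ε x).2
    obtain ⟨y, hy, hyx⟩ := Submodule.mem_map.1 h1
    have h2 : g 0 x - y ∈ LinearMap.range (F.d 0) := by
      rw [← F.exact₀, LinearMap.mem_ker, map_sub, hyx, sub_self]
    have h3 := add_mem ((O T).range_d_le_bd h2) (hJ hy)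
    rwa [sub_add_cancel] at h3
  obtain ⟨h, hh0, hh⟩ := exists_homotopy G (Res.free_projective _) hO lev (fun s => ψ (lev s))
    (fun s j z hz => hψ (lev s) j z hz) g p hg hbd p le_rfl
  let L := lev (gens.toList.length - p)
  let H : ∀ j, G.X j →ₗ[A] F.X (j + 1) := fun j => ((O L).π (j + 1)).comp (h j)
  refine homologyMap_eq_zero_of_ladder I N hN p G F M'.subtype (corrected g H) (fun x => ?_)
    (corrected_comm g H hg) fun j hj x => ?_
  · show F.ε (g 0 x - F.d 0 (H 0 x)) = _
    rw [map_sub, F.ε_d, sub_zero, hg0]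
  · match j with
    | 0 =>
      show g 0 x - F.d 0 ((O L).π 1 (h 0 x)) ∈ _
      have h1 := (O L).π_d 0 (h 0 x)
      rwa [hh0, (O L).π_ι] at h1
    | i + 1 =>
      show g (i + 1) x - (F.d (i + 1) ((O L).π (i + 2) (h (i + 1) x)) + (O L).π (i + 1) (h i (G.d i x))) ∈ _
      have h1 := (O L).π_d (i + 1) (h (i + 1) x)
      have h2 : (O L).π (i + 1) ((O L).d (i + 1) (h (i + 1) x)) = g (i + 1) x - (O L).π (i + 1) (h i (G.d i x)) := by
        rw [eq_sub_iff_add_eq, ← map_add, hh i (by omega), (O L).π_ι]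
      rw [h2] at h1
      rwa [sub_add_eq_sub_sub_swap]

end TorPowLib
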